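import Cfsg.Prelude.Def_SteinbergCover
import Mathlib.GroupTheory.Abelianization.Defs
import Mathlib.Tactic.FieldSimp

/-!
# Perfectness of the group presented by Steinberg's relators (R1), (R2)

In the abelianisation every commutator word is `0`. A checked script of root pairs shows in
turn that the image of each root subgroup vanishes.
-/

set_option autoImplicit false

namespace CfsgLib.SteinbergPerfect

open Cfsg Cfsg.Lie

variable (D : ChevalleyDatum)

/-- One step: the roots known to die after reading the commutator relator of the pair `p`.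
With `two`, a relator with two remaining terms of bidegrees `(1,1)`, `(1,2)` or `(2,1)` is used
(this needs a field element other than `0`, `1`). -/
def step (two : Bool) (known : List ℕ) (p : ℕ × ℕ) : List ℕ :=
  if p.1 < D.nroots ∧ p.2 < D.nroots ∧ p.2 ≠ p.1 ∧ p.2 ≠ D.neg p.1 then
    match (D.commTerms p.1 p.2).filter (fun c => !known.contains c.1) with
    | [(k, C, i, j)] =>
      if C.natAbs = 1 ∧ (i = 1 ∨ j = 1) then k :: known else known
    | [(k, C, i, j), (m, C', i', j')] =>
      if two = true ∧ C.natAbs = 1 ∧ C'.natAbs = 1 ∧ i = 1 ∧ j = 1 ∧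
          ((i' = 1 ∧ j' = 2) ∨ (i' = 2 ∧ j' = 1)) then k :: m :: known
      else known
    | _ => known
  else known

/-- The script shows that every root subgroup dies. -/
def scriptOk (two : Bool) (script : List (ℕ × ℕ)) : Bool :=
  let known := script.foldl (step D two) []
  (List.range D.nroots).all known.contains

variable (K : Type*) [Field K]

/-- The image of `x̄_r(t)` in the abelianisation, written additively. -/
def ab (r : ℕ) (t : K) : Additive (Abelianization (D.SteinbergCover K)) :=
  Additive.ofMul (Abelianization.of (D.scGen K r t))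

variable {D K}

theorem ab_add (r : ℕ) (t u : K) : ab D K r (t + u) = ab D K r t + ab D K r u := by
  by_cases hr : r < D.nroots
  · have h : PresentedGroup.mk (D.steinbergRelsAB K)
        (D.stX r t * D.stX r u * (D.stX r (t + u))⁻¹) = 1 :=
      PresentedGroup.one_of_mem (Or.inl ⟨r, t, u, hr, rfl⟩)
    rw [map_mul, map_mul, map_inv, mul_inv_eq_one] at h
    simp only [ab, ChevalleyDatum.scGen, ← ofMul_mul, ← map_mul, h]
  · simp [ab, ChevalleyDatum.scGen, ChevalleyDatum.stX, hr]

/-- The image of `x̄_r` as an additive map. -/
def abHom (r : ℕ) : K →+ Additive (Abelianization (D.SteinbergCover K)) :=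
  AddMonoidHom.mk' (ab D K r) (ab_add r)

/-- The commutator relator in the abelianisation. -/
theorem ab_comm {r s : ℕ} (hr : r < D.nroots) (hs : s < D.nroots) (h1 : s ≠ r)
    (h2 : s ≠ D.neg r) (t u : K) :
    ((D.commTerms r s).map fun c =>
      abHom (D := D) c.1 ((c.2.1 : K) * (-t) ^ c.2.2.1 * u ^ c.2.2.2)).sum = 0 := by
  have h : PresentedGroup.mk (D.steinbergRelsAB K)
      ((D.stX s u)⁻¹ * (D.stX r t)⁻¹ * D.stX s u * D.stX r t *
        (D.stWord (D.commWord K r s t u))⁻¹) = 1 :=
    PresentedGroup.one_of_mem (Or.inr ⟨r, s, t, u, hr, hs, h1, h2, rfl⟩)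
  have h' := congrArg (fun g => Additive.ofMul (Abelianization.of g)) h
  simp only [map_mul, map_inv, map_one, ofMul_mul, ofMul_inv, ofMul_one] at h'
  rw [ChevalleyDatum.stWord, ChevalleyDatum.commWord, map_list_prod, map_list_prod,
    ofMul_list_prod] at h'
  simp only [List.map_map] at h'
  rw [← neg_eq_zero, ← h']
  have e : (fun c : ℕ × ℤ × ℕ × ℕ =>
      abHom (D := D) c.1 ((c.2.1 : K) * (-t) ^ c.2.2.1 * u ^ c.2.2.2)) =
      fun c => Additive.ofMul (Abelianization.of (PresentedGroup.mk (D.steinbergRelsAB K)
        (D.stX c.1 ((c.2.1 : K) * (-t) ^ c.2.2.1 * u ^ c.2.2.2)))) := rfl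
  rw [e, Function.comp_def, Function.comp_def]
  simp only [Function.comp_def]
  abel

theorem intCast_sq_of_natAbs {C : ℤ} (h : C.natAbs = 1) : (C : K) * C = 1 := by
  rcases Int.natAbs_eq_iff.mp h with rfl | rfl <;> simp

theorem sum_filter_known (known : List ℕ) (hk : ∀ k ∈ known, ∀ x, abHom (D := D) (K := K) k x = 0)
    (l : List (ℕ × ℤ × ℕ × ℕ)) (g : ℕ × ℤ × ℕ × ℕ → K) :
    ((l.filter fun c => !known.contains c.1).map fun c => abHom (D := D) c.1 (g c)).sum =
      (l.map fun c => abHom (D := D) c.1 (g c)).sum := by
  induction l with
  | nil => rfl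
  | cons c l ih =>
    by_cases hc : c.1 ∈ known
    · rw [List.filter_cons_of_neg (by simp [hc]), List.map_cons, List.sum_cons, hk _ hc, zero_add,
        ih]
    · rw [List.filter_cons_of_pos (by simp [hc]), List.map_cons, List.map_cons, List.sum_cons,
        List.sum_cons, ih]

theorem step_sound (two : Bool) (hc : two = true → ∃ c : K, c ≠ 0 ∧ c ≠ 1) (known : List ℕ)
    (hk : ∀ k ∈ known, ∀ x, abHom (D := D) (K := K) k x = 0) (p : ℕ × ℕ) :
    ∀ k ∈ step D two known p, ∀ x, abHom (D := D) (K := K) k x = 0 := by
  unfold step
  split_ifs with hp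
  · obtain ⟨hr, hs, h1, h2⟩ := hp
    have rel : ∀ t u : K, (((D.commTerms p.1 p.2).filter fun c => !known.contains c.1).map
        fun c => abHom (D := D) c.1 ((c.2.1 : K) * (-t) ^ c.2.2.1 * u ^ c.2.2.2)).sum = 0 := by
      intro t u
      rw [sum_filter_known known hk]
      exact ab_comm hr hs h1 h2 t u
    split
    · next k C i j heq =>
      split_ifs with hcond
      · obtain ⟨hC, hij⟩ := hcond
        intro k' hk' x
        rcases List.mem_cons.mp hk' with rfl | hk'
        · rcases hij with rfl | rfl
          · have h := rel (-((C : K) * x)) 1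
            rw [heq] at h
            simpa [← mul_assoc, intCast_sq_of_natAbs hC] using h
          · have h := rel (-1) ((C : K) * x)
            rw [heq] at h
            simpa [← mul_assoc, intCast_sq_of_natAbs hC] using h
        · exact hk k' hk' x
      · exact hk
    · next k C i j m C' i' j' heq =>
      split_ifs with hcond
      · obtain ⟨h2t, hC, hC', rfl, rfl, hij⟩ := hcond
        obtain ⟨c, hc0, hc1⟩ := hc h2t
        have hd : c ^ 2 - c ≠ 0 := by
          rw [show c ^ 2 - c = c * (c - 1) by ring]
          exact mul_ne_zero hc0 (sub_ne_zero.mpr hc1)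
        have hm : ∀ x, abHom (D := D) (K := K) m x = 0 := by
          intro x
          have key : ∀ y : K, abHom (D := D) m ((C' : K) * y * (c ^ 2 - c)) = 0 := by
            intro y
            rcases hij with ⟨rfl, rfl⟩ | ⟨rfl, rfl⟩
            · have ha := rel (-y) c
              have hb := rel (-(y * c)) 1
              rw [heq] at ha hb
              simp only [List.map_cons, List.map_nil, List.sum_cons, List.sum_nil, add_zero,
                neg_neg, pow_one, mul_one, one_pow] at ha hb
              rw [show (C : K) * y * c = (C : K) * (y * c) by ring, ← hb, add_right_inj] at ha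
              rw [mul_sub, map_sub, ha, sub_eq_zero]
              congr 1; ring
            · have ha := rel (-c) y
              have hb := rel (-1) (c * y)
              rw [heq] at ha hb
              simp only [List.map_cons, List.map_nil, List.sum_cons, List.sum_nil, add_zero,
                neg_neg, pow_one, mul_one, one_pow] at ha hb
              rw [show (C : K) * c * y = (C : K) * (c * y) by ring, ← hb, add_right_inj] at ha
              rw [mul_sub, map_sub, show (C' : K) * y * c ^ 2 = (C' : K) * c ^ 2 * y by ring, ha,
                sub_eq_zero]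
              congr 1; ring
          have h := key ((C' : K) * x / (c ^ 2 - c))
          rwa [mul_assoc, div_mul_cancel₀ _ hd, ← mul_assoc, intCast_sq_of_natAbs hC',
            one_mul] at h
        intro k' hk' x
        rcases List.mem_cons.mp hk' with rfl | hk'
        · have h := rel (-((C : K) * x)) 1
          rw [heq] at h
          simp only [List.map_cons, List.map_nil, List.sum_cons, List.sum_nil, add_zero] at h
          rw [hm, add_zero] at h
          simpa [← mul_assoc, intCast_sq_of_natAbs hC] using h
        · rcases List.mem_cons.mp hk' with rfl | hk'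
          · exact hm x
          · exact hk k' hk' x
      · exact hk
    · exact hk
  · exact hk

theorem foldl_sound (two : Bool) (hc : two = true → ∃ c : K, c ≠ 0 ∧ c ≠ 1) :
    ∀ (script : List (ℕ × ℕ)) (known : List ℕ),
      (∀ k ∈ known, ∀ x, abHom (D := D) (K := K) k x = 0) →
      ∀ k ∈ script.foldl (step D two) known, ∀ x, abHom (D := D) (K := K) k x = 0 := by
  intro script
  induction script with
  | nil => intro known hk; exact hk
  | cons p script ih => intro known hk; exact ih _ (step_sound two hc known hk p)

/-- A checked script shows that the group is perfect. -/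
theorem commutator_eq_top (two : Bool) (hc : two = true → ∃ c : K, c ≠ 0 ∧ c ≠ 1)
    (script : List (ℕ × ℕ)) (h : scriptOk D two script = true) :
    commutator (D.SteinbergCover K) = ⊤ := by
  simp only [scriptOk, List.all_eq_true, List.mem_range, List.contains_iff_mem] at h
  rw [eq_top_iff, ← PresentedGroup.closure_range_of (D.steinbergRelsAB K), Subgroup.closure_le]
  rintro _ ⟨⟨r, t⟩, rfl⟩
  have h0 := foldl_sound (K := K) two hc script [] (by simp) r (h r r.2) t
  have e : D.scGen K r t = PresentedGroup.of (r, t) := by
    simp [ChevalleyDatum.scGen, ChevalleyDatum.stX, PresentedGroup.of]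
  rw [SetLike.mem_coe, ← e, ← QuotientGroup.eq_one_iff]
  exact Additive.ofMul.injective h0

end CfsgLib.SteinbergPerfect
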